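import Cfsg.Agent.Lib.CoThreeSp6.LevelF.Tab

/-! The coset enumeration over the normaliser of an elementary abelian group: checks. -/

set_option autoImplicit false
set_option maxRecDepth 100000
set_option Elab.async false

namespace Cfsg.Agent.CoThreeSp6.LevelF

open Cfsg.Agent.CosetCert

/-- The steps of segment 0, part 0. -/
def ph0_0 : List ℕ := [
  2048, 2049, 2050, 2051, 2052, 49153, 45056, 40962, 49156, 28676,
  4137, 16426, 4139, 8244, 8251, 8257, 16463, 16462, 16464, 8276,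
  41044, 28757, 53334, 36953, 53336, 57437, 57439]

/-- Segment 0. -/
def seg0 : List Phase := [.scans ph0_0]

theorem seg0_ok : stIs (runList (phaseStep P) seg0 ⟨15, mask0, []⟩) 15 mask1 = true := by decide +kernel

/-- The steps of segment 1, part 0. -/
def ph1_0 : List Aux := [
  .node 3 0, .node 4 0, .node 5 0, .node 5 1, .node 6 0, .derive 19 [.bwd 0, .edge 5, .edge 1, .edge 5, .fwd 2] [1] (.rel 46), .node 6 1, .node 7 0, .node 7 1, .node 8 0,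
  .node 8 1, .node 9 0, .node 9 1, .node 10 0, .node 10 1, .node 11 0, .node 11 1, .node 11 5, .derive 31 [.bwd 0, .edge 4, .edge 5] [4] (.rel 41), .derive 31 [.bwd 1, .edge 2, .edge 5, .edge 2, .fwd 1] [2] (.rel 83),
  .derive 31 [.bwd 2, .edge 3, .edge 5, .edge 3, .edge 5, .edge 3, .edge 5, .edge 3, .fwd 2] [3] (.rel 86), .node 12 0, .node 12 1, .node 14 0, .node 14 4, .derive 35 [.bwd 0, .edge 2, .fwd 0] [2] (.rel 3), .derive 35 [.bwd 1, .edge 3, .fwd 1, .bwd 0] [3] (.rel 7), .derive 35 [.fwd 1, .bwd 2, .edge 1, .bwd 8, .bwd 7] [1] (.rel 10), .node 14 5, .node 15 1,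
  .node 15 2, .derive 38 [.bwd 0, .bwd 30, .edge 2, .edge 3, .edge 0, .edge 2, .edge 3, .fwd 29] [3] (.rel 29), .node 15 3, .derive 39 [.bwd 0, .fwd 2, .fwd 1] [2] (.rel 1), .derive 39 [.bwd 1, .bwd 33, .edge 3, .edge 0, .edge 3, .fwd 32, .bwd 2] [0] (.rel 20), .node 15 4, .node 15 5, .node 16 1, .derive 42 [.bwd 0, .bwd 36, .edge 1, .edge 3, .edge 1, .edge 0, .edge 1, .edge 3, .edge 1, .fwd 37, .fwd 8] [3] (.rel 40), .derive 30 [.bwd 22, .edge 4, .edge 3, .edge 5, .edge 2, .fwd 37, .bwd 7, .bwd 8, .fwd 9, .bwd 0, .bwd 1, .bwd 37, .edge 4, .edge 2, .edge 5, .fwd 32] [3] (.rel 81),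
  .derive 30 [.fwd 0, .bwd 33, .edge 5, .edge 2, .fwd 39, .fwd 10, .bwd 1, .bwd 2, .bwd 6, .bwd 7, .bwd 39, .edge 2, .edge 4, .edge 5, .edge 3, .fwd 17] [4] (.rel 82), .derive 26 [.bwd 28, .edge 4, .edge 3, .edge 5, .edge 2, .fwd 40, .fwd 8, .fwd 7, .fwd 3, .fwd 2, .bwd 11, .bwd 40, .edge 4, .edge 2, .edge 5, .fwd 37] [3] (.rel 81), .derive 26 [.fwd 0, .bwd 38, .edge 5, .edge 2, .fwd 40, .fwd 4, .fwd 3, .bwd 12, .fwd 11, .fwd 10, .bwd 40, .edge 2, .edge 4, .edge 5, .edge 3, .fwd 33] [4] (.rel 82), .derive 22 [.bwd 0, .bwd 30, .edge 4, .edge 2, .fwd 26] [2] (.rel 11), .derive 33 [.bwd 21, .edge 2, .edge 4, .fwd 35, .bwd 1] [2] (.rel 9), .derive 22 [.bwd 2, .fwd 3, .bwd 41, .edge 4, .edge 2, .fwd 30] [3] (.rel 13), .derive 28 [.bwd 0, .bwd 3, .bwd 33, .edge 2, .edge 4, .fwd 29, .fwd 6] [2] (.rel 21), .derive 18 [.bwd 43, .edge 4, .edge 3, .fwd 38, .bwd 4, .bwd 34, .edge 3, .fwd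 36] [2] (.rel 31), .derive 28 [.bwd 33, .edge 2, .edge 3, .fwd 39, .bwd 5, .bwd 35, .edge 3, .fwd 37] [4] (.rel 33), .derive 20 [.bwd 42, .edge 3, .fwd 40, .bwd 6, .bwd 36, .edge 2, .edge 3, .fwd 45] [4] (.rel 32),
  .derive 33 [.bwd 27, .edge 3, .edge 4, .edge 3, .fwd 41, .bwd 7, .fwd 8, .fwd 2] [3] (.rel 34), .derive 41 [.bwd 14, .bwd 50, .edge 2, .edge 1, .edge 4, .edge 5, .edge 3, .fwd 42, .bwd 8, .fwd 9, .bwd 47, .fwd 48] [2] (.rel 72), .derive 28 [.bwd 6, .bwd 9, .bwd 39, .edge 4, .edge 3, .edge 5, .edge 3, .edge 4, .edge 1, .edge 4, .edge 3, .edge 5, .edge 3, .edge 4, .fwd 39, .fwd 9, .fwd 6] [5] (.rel 92), .derive 24 [.bwd 4, .bwd 7, .bwd 10, .bwd 40, .edge 3, .edge 2, .edge 5, .edge 4, .edge 3, .edge 4, .edge 1, .edge 3, .edge 2, .edge 5, .edge 4, .edge 3, .edge 4, .fwd 40, .fwd 11, .fwd 5] [5] (.rel 94), .node 16 4, .derive 43 [.bwd 0, .bwd 21, .bwd 22, .fwd 19] [3]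 (.rel 6), .node 16 5, .derive 44 [.bwd 0, .bwd 55, .edge 1, .fwd 56, .fwd 20] [1] (.rel 43), .derive 44 [.bwd 1, .bwd 56, .edge 2, .edge 1, .edge 4, .edge 5, .edge 3, .fwd 35, .bwd 17, .fwd 18, .bwd 51, .fwd 53] [2] (.rel 72), .node 17 3,
  .node 17 4, .node 17 5, .node 18 0, .node 18 5, .derive 49 [.bwd 0, .bwd 60, .edge 5, .fwd 63, .fwd 34] [0] (.rel 47), .derive 49 [.bwd 1, .bwd 23, .bwd 52, .edge 3, .edge 2, .fwd 62, .bwd 13, .bwd 28, .fwd 35, .bwd 0] [2] (.rel 64), .derive 49 [.fwd 1, .bwd 36, .bwd 65, .edge 3, .edge 0, .edge 1, .edge 0, .edge 3, .fwd 65, .fwd 36, .bwd 1] [3] (.rel 39), .node 19 3, .node 19 4, .derive 51 [.bwd 0, .bwd 10, .fwd 11, .fwd 17, .fwd 8] [1] (.rel 8),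
  .node 19 5, .node 20 0, .derive 53 [.bwd 0, .bwd 65, .fwd 67, .fwd 66, .bwd 69, .fwd 68, .fwd 9] [1] (.rel 14), .node 20 5, .derive 54 [.bwd 0, .fwd 24, .fwd 10] [4] (.rel 41), .derive 54 [.bwd 1, .bwd 68, .edge 5, .fwd 73, .fwd 37] [0] (.rel 47), .derive 54 [.bwd 2, .fwd 4, .fwd 3, .bwd 13, .fwd 12] [1] (.rel 43), .derive 54 [.bwd 3, .fwd 27, .fwd 14, .bwd 4, .bwd 5, .fwd 27, .fwd 13, .bwd 11, .bwd 0] [2] (.rel 48), .derive 54 [.bwd 4, .bwd 38, .bwd 61, .edge 3, .edge 5, .edge 3, .fwd 65, .fwd 36, .fwd 14, .bwd 11, .bwd 1] [3] (.rel 87), .node 21 1,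
  .node 21 2, .node 21 3, .node 21 4, .node 21 5, .node 22 5, .derive 60 [.bwd 0, .bwd 76, .edge 5, .fwd 77, .fwd 5] [0] (.rel 47), .node 23 1, .derive 61 [.bwd 0, .bwd 77, .edge 2, .fwd 83, .bwd 37, .fwd 15, .fwd 14, .bwd 24, .bwd 37, .bwd 40] [0] (.rel 38), .derive 61 [.bwd 1, .bwd 78, .edge 2, .edge 5, .edge 3, .edge 1, .edge 3, .edge 2, .fwd 86, .bwd 54] [5] (.rel 63), .derive 52 [.bwd 18, .bwd 84, .edge 2, .fwd 74, .bwd 1, .bwd 2, .bwd 79, .edge 5, .edge 2, .edge 3, .fwd 80, .fwd 43, .bwd 1] [2] (.rel 74),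
  .node 23 2, .derive 62 [.bwd 0, .bwd 81, .fwd 80, .bwd 43, .bwd 87, .fwd 88, .bwd 39] [0] (.rel 15), .derive 62 [.bwd 1, .bwd 82, .edge 2, .fwd 88, .fwd 44, .bwd 81, .fwd 82, .fwd 5, .bwd 2] [1] (.rel 35), .derive 62 [.bwd 2, .bwd 83, .edge 3, .edge 4, .fwd 84, .fwd 47, .bwd 40, .fwd 44, .bwd 45, .fwd 30, .bwd 20] [5] (.rel 67), .node 23 3, .node 23 5, .derive 64 [.bwd 0, .bwd 86, .edge 3, .fwd 83, .fwd 54, .fwd 32, .fwd 31, .bwd 57, .bwd 58, .bwd 64] [1] (.rel 55), .derive 64 [.bwd 1, .fwd 10, .fwd 9, .fwd 50, .fwd 23, .bwd 18, .fwd 20, .bwd 30, .bwd 31, .fwd 32] [2] (.rel 62), .derive 64 [.bwd 2, .bwd 88, .edge 2, .fwd 94, .fwd 34, .bwd 31, .bwd 21, .bwd 19, .fwd 21, .fwd 33, .bwd 0] [0] (.rel 70), .node 24 0]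

/-- The steps of segment 1, part 1. -/
def ph1_1 : List Aux := [
  .derive 65 [.bwd 0, .bwd 89, .fwd 90, .fwd 13, .fwd 12, .bwd 85, .fwd 86] [1] (.rel 14), .derive 65 [.bwd 1, .bwd 90, .fwd 91, .fwd 5, .fwd 4] [5] (.rel 44), .derive 65 [.bwd 2, .bwd 51, .bwd 61, .bwd 85, .edge 3, .edge 5, .edge 4, .edge 2, .fwd 97, .fwd 96, .fwd 40] [2] (.rel 68), .node 25 1, .node 25 2, .node 25 3, .node 25 4, .node 25 5, .node 26 5, .derive 71 [.bwd 0, .fwd 66, .fwd 24] [4] (.rel 41),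
  .derive 71 [.bwd 1, .bwd 97, .edge 5, .fwd 98, .fwd 6] [0] (.rel 47), .node 27 2, .derive 72 [.bwd 0, .bwd 98, .fwd 97, .fwd 65, .bwd 105, .fwd 107, .bwd 53] [0] (.rel 15), .derive 72 [.bwd 1, .bwd 99, .edge 2, .fwd 106, .bwd 66, .bwd 98, .fwd 99, .bwd 12, .fwd 10] [1] (.rel 35), .derive 72 [.bwd 2, .bwd 100, .edge 3, .edge 4, .fwd 91, .fwd 63, .bwd 60, .bwd 65, .fwd 67, .fwd 42, .fwd 41] [5] (.rel 67), .node 27 3, .node 27 4, .node 27 5, .derive 75 [.bwd 0, .bwd 104, .fwd 103, .bwd 30, .fwd 29] [1] (.rel 43), .derive 75 [.bwd 1, .bwd 105, .fwd 104, .bwd 31, .bwd 32, .fwd 23, .fwd 22, .bwd 84, .bwd 0] [0] (.rel 53),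
  .derive 75 [.bwd 2, .bwd 106, .edge 3, .fwd 103, .fwd 80, .bwd 113, .edge 5, .fwd 118, .bwd 88, .bwd 23] [3] (.rel 58), .derive 75 [.bwd 3, .bwd 20, .bwd 21, .bwd 73, .fwd 57, .bwd 54, .bwd 44, .bwd 42, .bwd 43, .fwd 45] [2] (.rel 62), .node 29 1, .node 29 2, .derive 77 [.bwd 0, .bwd 108, .fwd 107, .bwd 80, .bwd 115, .fwd 116, .fwd 43] [0] (.rel 15), .node 29 5, .derive 78 [.bwd 0, .fwd 2, .fwd 1, .bwd 45, .fwd 46, .bwd 40, .bwd 41, .fwd 80, .bwd 111, .edge 3, .fwd 110, .fwd 2, .fwd 1] [1] (.rel 75), .derive 78 [.bwd 1, .fwd 3, .fwd 2, .bwd 46, .fwd 47, .bwd 41, .bwd 17, .bwd 18, .fwd 85, .bwd 123, .edge 4, .edge 3, .fwd 119, .fwd 47] [2] (.rel 76), .node 30 0, .derive 79 [.bwd 0, .bwd 112, .fwd 113, .fwd 3, .fwd 2] [5] (.rel 44),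
  .node 30 5, .node 32 1, .derive 81 [.bwd 0, .bwd 110, .edge 5, .edge 1, .fwd 103] [0] (.rel 45), .derive 60 [.fwd 47, .bwd 53, .bwd 125, .edge 3, .fwd 128, .fwd 127, .bwd 130, .edge 3, .fwd 111, .fwd 1, .fwd 0] [3] (.rel 39), .node 32 2, .derive 82 [.bwd 0, .bwd 113, .fwd 112, .fwd 90, .bwd 122, .fwd 123, .fwd 30] [0] (.rel 15), .derive 82 [.bwd 1, .bwd 114, .edge 3, .fwd 132, .bwd 94, .bwd 91, .bwd 113, .edge 5, .edge 1, .edge 2, .fwd 112] [5] (.rel 69), .node 32 5, .derive 83 [.bwd 0, .fwd 3, .fwd 2, .bwd 33, .fwd 34, .bwd 27, .bwd 29, .fwd 96, .bwd 134, .edge 3, .fwd 116, .fwd 3, .fwd 2] [1] (.rel 75), .derive 83 [.bwd 1, .fwd 4, .fwd 3, .bwd 34, .fwd 35, .bwd 28, .fwd 29, .bwd 54, .fwd 93, .bwd 124, .edge 4, .edge 3, .fwd 127, .fwd 35] [2] (.rel 76),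
  .node 33 0, .derive 84 [.bwd 0, .bwd 118, .fwd 119, .fwd 3, .fwd 2] [5] (.rel 44), .node 33 5, .derive 85 [.bwd 0, .bwd 102, .fwd 12] [4] (.rel 41), .node 34 1, .node 34 2, .derive 87 [.bwd 0, .bwd 122, .edge 3, .fwd 121, .fwd 118, .bwd 125, .bwd 128, .edge 4, .edge 2, .fwd 134, .fwd 42] [5] (.rel 67), .node 34 3, .node 35 0, .derive 89 [.bwd 0, .bwd 123, .fwd 121, .bwd 131, .edge 3, .fwd 134, .bwd 103, .bwd 140, .fwd 141, .fwd 68, .bwd 24] [5] (.rel 71),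
  .node 35 5, .derive 90 [.bwd 0, .bwd 126, .fwd 122] [4] (.rel 41), .derive 90 [.bwd 1, .fwd 124, .bwd 134, .fwd 136, .fwd 29] [0] (.rel 47), .node 36 1, .derive 91 [.bwd 0, .bwd 20, .bwd 69, .fwd 110, .fwd 25, .fwd 24, .bwd 29, .bwd 30, .fwd 31, .bwd 1] [3] (.rel 60), .node 37 4, .derive 92 [.bwd 0, .bwd 58, .fwd 59, .bwd 125, .fwd 120] [1] (.rel 8), .node 37 5, .derive 93 [.bwd 0, .bwd 119, .bwd 120, .bwd 126, .bwd 127, .bwd 157, .edge 2, .edge 5, .fwd 151, .fwd 86] [2] (.rel 64), .node 38 4,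
  .node 40 0, .derive 95 [.bwd 0, .bwd 125, .bwd 160, .edge 4, .edge 2, .fwd 160, .fwd 125, .fwd 0] [2] (.rel 24), .node 40 5, .derive 96 [.bwd 0, .bwd 127, .fwd 126] [4] (.rel 41), .derive 96 [.bwd 1, .bwd 128, .fwd 134, .bwd 99, .bwd 98, .bwd 100, .bwd 122, .bwd 151, .edge 3, .edge 2, .fwd 161, .fwd 103] [2] (.rel 73), .node 41 3, .derive 97 [.bwd 0, .fwd 114, .fwd 106] [2] (.rel 1), .derive 97 [.bwd 1, .bwd 130, .bwd 166, .edge 3, .edge 1, .edge 3, .edge 1, .edge 5, .fwd 162, .fwd 99] [1] (.rel 57), .node 42 5, .derive 98 [.bwd 0, .bwd 131, .fwd 112, .bwd 56, .fwd 55] [0] (.rel 47),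
  .derive 98 [.bwd 1, .bwd 94, .fwd 93, .fwd 105, .fwd 12] [1] (.rel 43), .derive 98 [.bwd 2, .fwd 132, .bwd 141, .fwd 138, .fwd 137, .bwd 169, .edge 2, .edge 5, .fwd 167, .fwd 108] [2] (.rel 64), .node 43 0, .derive 99 [.bwd 0, .bwd 118, .bwd 139, .fwd 138, .bwd 76, .bwd 74, .fwd 75, .bwd 143, .fwd 137, .fwd 12] [1] (.rel 37), .node 43 5, .derive 100 [.bwd 0, .bwd 120, .fwd 118] [4] (.rel 41), .derive 100 [.bwd 1, .bwd 121, .bwd 174, .edge 1, .fwd 175, .fwd 140, .fwd 13, .fwd 11, .bwd 106] [2] (.rel 48), .node 44 3, .node 45 5, .node 46 0,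
  .node 46 5, .derive 104 [.bwd 0, .bwd 120, .fwd 119] [4] (.rel 41), .node 47 3, .derive 105 [.bwd 0, .bwd 121, .bwd 180, .edge 3, .fwd 160, .fwd 132, .bwd 172, .edge 5, .fwd 169, .fwd 67] [1] (.rel 57), .node 48 3, .node 48 4, .node 50 0, .node 50 5, .node 51 0, .derive 110 [.bwd 0, .bwd 120, .bwd 184, .edge 4, .fwd 186, .fwd 128, .fwd 9] [4] (.rel 22),
  .node 52 3, .derive 111 [.bwd 0, .bwd 120, .bwd 186, .edge 3, .fwd 182, .fwd 145, .bwd 176, .edge 5, .fwd 181, .fwd 96] [1] (.rel 57), .node 53 4, .derive 112 [.bwd 0, .bwd 34, .bwd 22, .fwd 21, .fwd 7] [1] (.rel 8), .node 55 3, .node 55 4, .derive 114 [.bwd 0, .bwd 68, .fwd 69, .bwd 115, .fwd 113] [1] (.rel 8), .node 55 5, .derive 115 [.bwd 0, .bwd 118, .bwd 190, .edge 2, .fwd 180, .bwd 177, .bwd 170, .bwd 171, .bwd 172, .fwd 49] [2] (.rel 62), .derive 115 [.fwd 0, .bwd 50, .fwd 171, .fwd 179, .bwd 171, .fwd 50, .bwd 0]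 [0] (.rel 15)]

/-- The steps of segment 1, part 2. -/
def ph1_2 : List Aux := [
  .node 56 3, .derive 116 [.bwd 0, .bwd 120, .fwd 119] [2] (.rel 1), .derive 116 [.bwd 1, .bwd 72, .bwd 73, .fwd 162, .bwd 195, .edge 3, .fwd 193, .fwd 117, .fwd 116, .fwd 7] [1] (.rel 57), .node 56 4, .derive 117 [.bwd 0, .bwd 123, .fwd 121] [2] (.rel 3), .node 57 0, .derive 118 [.bwd 0, .bwd 124, .bwd 198, .edge 3, .fwd 201, .fwd 138, .fwd 19] [3] (.rel 19), .node 57 1, .derive 119 [.bwd 0, .bwd 6, .fwd 5, .bwd 13, .bwd 128, .fwd 127, .bwd 81] [3] (.rel 18), .derive 119 [.bwd 1, .bwd 127, .fwd 129, .bwd 81, .fwd 82, .fwd 8, .fwd 6] [2] (.rel 16),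
  .node 57 4, .derive 120 [.bwd 0, .bwd 129, .fwd 128, .bwd 6] [3] (.rel 7), .node 58 5, .derive 121 [.bwd 0, .bwd 130, .fwd 129] [4] (.rel 41), .node 59 0, .derive 122 [.bwd 0, .bwd 131, .fwd 135, .fwd 17, .bwd 15] [1] (.rel 46), .node 60 1, .derive 123 [.bwd 0, .fwd 83, .bwd 65, .bwd 62, .bwd 63, .bwd 65] [2] (.rel 12), .node 61 3, .derive 124 [.bwd 0, .bwd 129, .fwd 28] [2] (.rel 1),
  .node 62 3, .derive 125 [.bwd 0, .fwd 128, .fwd 131, .bwd 134, .fwd 126, .bwd 29, .bwd 1] [1] (.rel 17), .node 62 4, .derive 126 [.bwd 0, .fwd 131, .bwd 59, .fwd 58, .fwd 43, .bwd 33, .bwd 34, .bwd 46] [0] (.rel 25), .derive 126 [.bwd 1, .fwd 130, .fwd 31] [5] (.rel 42), .node 65 3, .derive 127 [.bwd 0, .fwd 123, .fwd 43] [2] (.rel 1), .node 65 4, .derive 128 [.bwd 0, .fwd 125, .bwd 46] [2] (.rel 3), .derive 128 [.bwd 1, .fwd 127, .fwd 69] [5] (.rel 42),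
  .node 66 3, .node 66 4, .derive 130 [.bwd 0, .bwd 92, .fwd 93, .bwd 127, .fwd 125] [1] (.rel 8), .node 67 3, .derive 131 [.bwd 0, .bwd 129, .bwd 222, .edge 2, .edge 3, .fwd 231, .bwd 182, .fwd 68] [0] (.rel 28), .derive 131 [.bwd 1, .bwd 93, .bwd 94, .fwd 184, .bwd 224, .edge 3, .fwd 222, .fwd 126, .fwd 124, .fwd 4] [1] (.rel 57), .node 67 4, .derive 132 [.bwd 0, .bwd 132, .fwd 130] [2] (.rel 3), .node 68 4, .derive 133 [.bwd 0, .bwd 133, .fwd 132, .bwd 1] [3] (.rel 7),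
  .node 69 3, .derive 134 [.bwd 0, .bwd 134, .fwd 136, .fwd 7] [4] (.rel 5), .node 69 5, .derive 135 [.bwd 0, .bwd 136, .fwd 135] [4] (.rel 41), .node 72 3, .derive 136 [.bwd 0, .fwd 131, .bwd 142, .fwd 144, .fwd 129, .bwd 61, .bwd 18] [1] (.rel 17), .derive 136 [.bwd 1, .bwd 134, .bwd 232, .edge 2, .edge 3, .fwd 238, .fwd 165, .fwd 45] [0] (.rel 28), .derive 105 [.fwd 63, .bwd 131, .fwd 129, .fwd 125, .fwd 208, .bwd 182, .bwd 170, .bwd 173, .bwd 240, .edge 3, .edge 5, .edge 2, .edge 3, .fwd 233, .bwd 146, .fwd 145, .bwd 150, .bwd 126, .bwd 129, .fwd 135, .fwd 2, .fwd 0, .fwd 44] [5] (.rel 97), .node 72 4, .derive 137 [.bwd 0, .bwd 137, .fwd 132] [2] (.rel 3),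
  .derive 137 [.bwd 1, .bwd 138, .bwd 149, .fwd 147, .bwd 68] [1] (.rel 8), .derive 137 [.bwd 2, .fwd 138, .bwd 75, .bwd 27, .bwd 28, .fwd 159, .bwd 87] [0] (.rel 23), .derive 137 [.bwd 3, .fwd 137, .fwd 66] [5] (.rel 42), .node 74 3, .derive 138 [.bwd 0, .bwd 137, .fwd 142, .fwd 9] [4] (.rel 5), .node 74 5, .derive 139 [.bwd 0, .bwd 6, .fwd 4, .bwd 93, .fwd 95, .bwd 94, .bwd 82, .bwd 83, .fwd 200, .bwd 99] [3] (.rel 61), .node 77 3, .derive 140 [.bwd 0, .fwd 133, .fwd 57, .bwd 11, .bwd 13, .fwd 145, .fwd 80] [0] (.rel 20), .derive 140 [.bwd 1, .bwd 135, .fwd 133, .bwd 50, .fwd 49, .bwd 11, .bwd 76, .bwd 156, .fwd 157, .fwd 227, .bwd 225, .bwd 170, .fwd 40, .fwd 39] [5] (.rel 90),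
  .derive 125 [.bwd 39, .fwd 167, .fwd 69, .bwd 0, .fwd 1, .bwd 82, .fwd 202, .fwd 94, .fwd 92, .fwd 72] [0] (.rel 56), .derive 109 [.bwd 0, .bwd 40, .fwd 169, .fwd 95, .bwd 26, .bwd 27, .bwd 125] [3] (.rel 19), .derive 89 [.bwd 113, .fwd 111, .bwd 44, .bwd 45, .fwd 176, .fwd 67, .bwd 14, .bwd 79, .bwd 92, .bwd 93, .bwd 140, .fwd 143, .fwd 227, .fwd 230, .fwd 205, .fwd 84, .bwd 3, .fwd 2, .bwd 42, .bwd 40, .fwd 1, .fwd 0, .fwd 125, .fwd 114] [] (.rel 98), .derive 89 [.fwd 0] [] (.free), .derive 88 [.bwd 0, .bwd 115] [0] (.free), .derive 88 [.bwd 1, .fwd 115] [5] (.free), .derive 122 [.fwd 50, .fwd 66, .bwd 68, .fwd 71, .bwd 63, .bwd 65, .bwd 141, .bwd 0, .bwd 118, .fwd 121] [3] (.rel 66), .derive 87 [.fwd 120, .bwd 156, .fwd 157, .fwd 181, .bwd 187, .fwd 186, .bwd 142, .bwd 1, .fwd 2, .bwd 241, .bwd 242, .fwd 243, .fwd 122, .bwd 0, .fwd 51] [3] (.rel 77), .derive 102 [.bwd 89,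 .bwd 208, .bwd 216, .bwd 231, .fwd 235, .bwd 179, .fwd 49, .fwd 48, .bwd 8, .bwd 10, .bwd 2, .bwd 120, .fwd 122, .fwd 121, .fwd 37] [] (.rel 91), .derive 129 [.bwd 0] [] (.free),
  .derive 84 [.fwd 128, .fwd 36, .fwd 35, .bwd 104, .bwd 233, .fwd 237, .fwd 235, .fwd 238, .fwd 213, .fwd 92, .bwd 11, .bwd 12, .bwd 4, .bwd 122, .bwd 246, .edge 3, .fwd 241, .bwd 136, .fwd 184, .fwd 75, .bwd 22, .bwd 87, .bwd 100] [3] (.rel 96), .derive 106 [.bwd 86, .bwd 99, .bwd 0] [2] (.rel 1), .derive 18 [.fwd 209, .bwd 100, .bwd 1, .bwd 131, .fwd 221, .bwd 224, .fwd 209, .bwd 100, .bwd 1] [] (.rel 30), .derive 84 [.bwd 0] [] (.free), .derive 18 [.bwd 0, .fwd 132] [5] (.free), .derive 49 [.bwd 211, .fwd 0] [] (.free), .derive 67 [.bwd 0] [] (.free), .derive 49 [.bwd 0, .fwd 40] [4] (.free), .derive 54 [.fwd 203, .fwd 0] [] (.free), .derive 132 [.bwd 0] [] (.free),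
  .derive 54 [.bwd 0, .bwd 40] [3] (.free), .derive 54 [.fwd 202, .fwd 0] [] (.free), .derive 133 [.bwd 0] [] (.free), .derive 54 [.bwd 0, .bwd 44] [4] (.free), .derive 49 [.bwd 209, .fwd 0] [] (.free), .derive 68 [.bwd 0] [] (.free), .derive 49 [.bwd 0, .bwd 180] [3] (.free), .derive 49 [.fwd 220, .fwd 0] [] (.free), .derive 49 [.fwd 0] [] (.free), .derive 25 [.bwd 0, .bwd 225] [5] (.free),
  .derive 70 [.bwd 182, .fwd 0] [] (.free), .derive 70 [.fwd 0] [] (.free), .derive 18 [.bwd 0, .bwd 48] [4] (.free), .derive 20 [.fwd 243, .fwd 0] [] (.free), .derive 135 [.bwd 0] [] (.free), .derive 20 [.bwd 0, .bwd 52] [5] (.free), .derive 54 [.bwd 222, .fwd 0] [] (.free), .derive 69 [.bwd 0] [] (.free), .derive 54 [.bwd 0, .fwd 57] [3] (.free), .derive 54 [.fwd 220, .fwd 0] [] (.free)]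

/-- The steps of segment 1, part 3. -/
def ph1_3 : List Aux := [
  .derive 134 [.bwd 0] [] (.free), .derive 54 [.bwd 0, .fwd 59] [4] (.free), .derive 49 [.bwd 227, .fwd 0] [] (.free), .derive 131 [.bwd 0, .fwd 14] [] (.free), .derive 25 [.bwd 0, .fwd 68, .fwd 34] [1] (.free), .derive 66 [.bwd 201, .fwd 0] [] (.free), .derive 102 [.bwd 0] [] (.free), .derive 66 [.bwd 0, .bwd 128] [5] (.free), .derive 87 [.fwd 161, .fwd 0] [] (.free), .derive 87 [.fwd 0] [] (.free),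
  .derive 45 [.bwd 0, .fwd 42] [3] (.free), .derive 17 [.fwd 251, .fwd 0] [] (.free), .derive 115 [.bwd 0] [] (.free), .derive 17 [.bwd 0, .bwd 115] [5] (.free), .derive 47 [.bwd 252, .fwd 0] [] (.free), .derive 55 [.bwd 0] [] (.free), .derive 47 [.bwd 0, .fwd 120] [4] (.free), .derive 104 [.fwd 135, .fwd 0] [] (.free), .derive 114 [.bwd 0] [] (.free), .derive 104 [.bwd 0, .fwd 122] [1] (.free),
  .derive 137 [.fwd 69, .fwd 0] [] (.free), .derive 137 [.fwd 0] [] (.free), .derive 58 [.bwd 0, .fwd 69] [5] (.free), .derive 121 [.bwd 110, .fwd 0] [] (.free), .derive 121 [.fwd 0] [] (.free), .derive 107 [.bwd 0, .fwd 111] [4] (.free), .derive 48 [.fwd 140, .fwd 0] [] (.free), .derive 59 [.bwd 0] [] (.free), .derive 48 [.bwd 0, .bwd 244] [5] (.free), .derive 72 [.fwd 214, .fwd 0] [] (.free),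
  .derive 72 [.fwd 0] [] (.free), .derive 21 [.bwd 0, .fwd 86] [3] (.free), .derive 57 [.bwd 250, .fwd 0] [] (.free), .derive 136 [.bwd 0] [] (.free), .derive 57 [.bwd 0, .bwd 79] [4] (.free), .derive 120 [.bwd 124, .fwd 0] [] (.free), .derive 138 [.bwd 0] [] (.free), .derive 120 [.bwd 0, .bwd 83] [3] (.free), .derive 117 [.bwd 126, .fwd 0] [] (.free), .derive 117 [.fwd 0] [] (.free),
  .derive 74 [.bwd 0, .bwd 136] [4] (.free), .derive 27 [.fwd 224, .fwd 0] [] (.free), .derive 56 [.bwd 0] [] (.free), .derive 27 [.bwd 0, .bwd 213] [5] (.free), .derive 75 [.bwd 226, .fwd 0] [] (.free), .derive 79 [.bwd 0] [] (.free), .derive 75 [.bwd 0, .bwd 217] [0] (.free), .derive 75 [.fwd 227, .fwd 0] [] (.free), .derive 75 [.fwd 0] [] (.free), .derive 30 [.bwd 0, .bwd 231] [5] (.free),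
  .derive 80 [.bwd 219, .fwd 0] [] (.free), .derive 80 [.fwd 0] [] (.free), .derive 27 [.bwd 0, .bwd 208] [4] (.free), .derive 74 [.bwd 236, .fwd 0] [] (.free), .derive 85 [.bwd 0] [] (.free), .derive 74 [.bwd 0, .bwd 212] [5] (.free), .derive 139 [.bwd 100, .fwd 0] [] (.free), .derive 139 [.fwd 0] [] (.free), .derive 33 [.bwd 0, .fwd 101] [3] (.free), .derive 24 [.bwd 308, .fwd 0] [] (.free),
  .derive 92 [.bwd 0] [] (.free), .derive 24 [.bwd 0, .bwd 205] [4] (.free), .derive 28 [.fwd 313, .fwd 0] [] (.free), .derive 37 [.bwd 0] [] (.free), .derive 28 [.bwd 0, .fwd 206] [5] (.free), .derive 28 [.fwd 312, .fwd 0] [] (.free), .derive 93 [.bwd 0] [] (.free), .derive 28 [.bwd 0, .fwd 208] [2] (.free), .derive 20 [.bwd 321, .fwd 0] [] (.free), .derive 53 [.bwd 0] [] (.free),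
  .derive 20 [.bwd 0, .bwd 276] [5] (.free), .derive 54 [.bwd 297, .fwd 0] [] (.free), .derive 62 [.bwd 0] [] (.free), .derive 54 [.bwd 0, .fwd 150] [4] (.free), .derive 49 [.bwd 299, .fwd 0] [] (.free), .derive 126 [.bwd 0, .fwd 86] [] (.free), .derive 25 [.bwd 0, .fwd 151] [5] (.free), .derive 70 [.bwd 269, .fwd 0] [] (.free), .derive 112 [.bwd 0, .fwd 86] [] (.free), .derive 18 [.bwd 0, .fwd 185] [1] (.free),
  .derive 5 [.fwd 376, .fwd 0] [] (.free), .derive 107 [.bwd 0] [] (.free), .derive 5 [.bwd 0, .bwd 129, .fwd 60] [5] (.free), .derive 3 [.edge 5, .fwd 0] [] (.free), .derive 58 [.bwd 0] [] (.free), .derive 3 [.bwd 0, .bwd 302] [4] (.free), .derive 4 [.edge 4, .fwd 0] [] (.free), .derive 21 [.bwd 0] [] (.free), .derive 4 [.bwd 0, .fwd 304, .fwd 60] [5] (.free), .derive 6 [.edge 5, .fwd 0] [] (.free),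
  .derive 48 [.bwd 0] [] (.free), .derive 6 [.bwd 0, .fwd 206] [3] (.free), .derive 7 [.edge 3, .fwd 0] [] (.free), .derive 106 [.bwd 0] [] (.free), .derive 7 [.bwd 0, .fwd 122, .fwd 120] [2] (.free), .derive 24 [.bwd 347, .bwd 0] [] (.free), .derive 24 [.fwd 0] [] (.free), .derive 7 [.bwd 0, .bwd 348] [4] (.free), .derive 9 [.edge 4, .fwd 0] [] (.free), .derive 28 [.bwd 0] [] (.free)]

/-- The steps of segment 1, part 4. -/
def ph1_4 : List Aux := [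
  .derive 9 [.bwd 0, .bwd 354] [3] (.free), .derive 8 [.edge 3, .fwd 0] [] (.free), .derive 22 [.bwd 0] [] (.free), .derive 8 [.bwd 0, .fwd 318] [5] (.free), .derive 10 [.edge 5, .fwd 0] [] (.free), .derive 60 [.bwd 0] [] (.free), .derive 10 [.bwd 0, .bwd 296] [4] (.free), .derive 8 [.edge 4, .fwd 0] [] (.free), .derive 71 [.bwd 0] [] (.free), .derive 8 [.bwd 0, .bwd 300] [5] (.free),
  .derive 10 [.edge 5, .fwd 0] [] (.free), .derive 26 [.bwd 0] [] (.free), .derive 10 [.bwd 0, .fwd 370] [3] (.free), .derive 11 [.edge 3, .fwd 0] [] (.free), .derive 18 [.bwd 0] [] (.free), .derive 11 [.bwd 0, .fwd 351, .fwd 126] [5] (.free), .derive 31 [.bwd 398, .fwd 0] [] (.free), .derive 31 [.fwd 0] [] (.free), .derive 25 [.bwd 0, .fwd 399] [4] (.free), .derive 69 [.bwd 312, .fwd 0] [] (.free),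
  .derive 54 [.bwd 122, .fwd 0] [] (.free), .derive 13 [.bwd 0, .bwd 347] [5] (.free), .derive 12 [.edge 5, .fwd 0] [] (.free), .derive 20 [.bwd 0] [] (.free), .derive 12 [.bwd 0, .bwd 384] [3] (.free), .derive 5 [.edge 3, .fwd 0] [] (.free), .derive 30 [.bwd 0] [] (.free), .derive 5 [.bwd 0, .fwd 296, .fwd 75] [5] (.free), .derive 3 [.edge 5, .fwd 0] [] (.free), .derive 27 [.bwd 0] [] (.free),
  .derive 3 [.bwd 0, .fwd 313] [4] (.free), .derive 4 [.edge 4, .fwd 0] [] (.free), .derive 74 [.bwd 0] [] (.free), .derive 4 [.bwd 0, .fwd 177, .fwd 75] [5] (.free), .derive 6 [.edge 5, .fwd 0] [] (.free), .derive 33 [.bwd 0] [] (.free), .derive 84 [.fwd 162, .fwd 21] [] (.free), .derive 6 [.bwd 1, .fwd 296, .fwd 0] [0] (.free), .derive 29 [.bwd 422, .bwd 0] [] (.free), .derive 29 [.fwd 0] [] (.free),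
  .derive 6 [.bwd 0, .fwd 314] [5] (.free), .derive 4 [.edge 5, .fwd 0] [] (.free), .derive 78 [.bwd 0] [] (.free), .derive 4 [.bwd 0, .bwd 234] [3] (.free), .derive 1 [.edge 3, .fwd 0] [] (.free), .derive 119 [.bwd 0] [] (.free), .derive 1 [.bwd 0, .fwd 236] [2] (.free), .derive 2 [.edge 2, .fwd 0] [] (.free), .derive 113 [.bwd 0] [] (.free), .derive 2 [.bwd 0, .bwd 201] [5] (.free),
  .derive 2 [.edge 5, .fwd 0] [] (.free), .derive 105 [.bwd 0] [] (.free), .derive 2 [.bwd 0, .bwd 269] [3] (.free), .derive 3 [.edge 3, .fwd 0] [] (.free), .derive 47 [.bwd 0] [] (.free), .derive 3 [.bwd 0, .bwd 393] [5] (.free), .derive 5 [.edge 5, .fwd 0] [] (.free), .derive 17 [.bwd 0] [] (.free), .derive 5 [.bwd 0, .fwd 397] [4] (.free), .derive 6 [.edge 4, .fwd 0] [] (.free),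
  .derive 46 [.bwd 0] [] (.free), .derive 6 [.bwd 0, .fwd 280] [5] (.free), .derive 4 [.edge 5, .fwd 0] [] (.free), .derive 104 [.bwd 0] [] (.free), .derive 4 [.bwd 0, .bwd 235] [2] (.free), .derive 3 [.edge 2, .fwd 0] [] (.free), .derive 128 [.bwd 0] [] (.free), .derive 3 [.bwd 0, .fwd 237] [5] (.free), .derive 5 [.edge 5, .fwd 0] [] (.free), .derive 94 [.bwd 0] [] (.free),
  .derive 5 [.bwd 0, .bwd 310] [4] (.free), .derive 6 [.edge 4, .fwd 0] [] (.free), .derive 38 [.bwd 0] [] (.free), .derive 6 [.bwd 0, .bwd 371] [5] (.free), .derive 4 [.edge 5, .fwd 0] [] (.free), .derive 65 [.bwd 0] [] (.free), .derive 4 [.bwd 0, .fwd 250] [3] (.free), .derive 1 [.edge 3, .fwd 0] [] (.free), .derive 127 [.bwd 0] [] (.free), .derive 1 [.bwd 0, .bwd 233, .fwd 145] [1] (.free),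
  .derive 1 [.edge 1, .fwd 0] [] (.free), .derive 57 [.bwd 0] [] (.free), .derive 1 [.bwd 0, .fwd 276] [0] (.free), .derive 2 [.edge 0, .fwd 0] [] (.free), .derive 118 [.bwd 0] [] (.free), .derive 2 [.bwd 0, .fwd 278] [3] (.free), .derive 3 [.edge 3, .fwd 0] [] (.free), .derive 108 [.bwd 0] [] (.free), .derive 3 [.bwd 0, .bwd 301] [0] (.free), .derive 15 [.bwd 488, .fwd 0] [] (.free),
  .derive 50 [.bwd 0] [] (.free), .derive 15 [.bwd 0, .fwd 303] [5] (.free), .derive 41 [.bwd 455, .fwd 0] [] (.free), .derive 109 [.bwd 0] [] (.free), .derive 41 [.bwd 0, .fwd 232] [3] (.free), .derive 97 [.bwd 329, .fwd 0] [] (.free), .derive 97 [.fwd 0] [] (.free), .derive 82 [.bwd 0, .fwd 330] [2] (.free), .derive 32 [.fwd 363, .fwd 0] [] (.free), .derive 45 [.bwd 0] [] (.free)]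

/-- The steps of segment 1, part 5. -/
def ph1_5 : List Aux := [
  .derive 32 [.bwd 0, .bwd 440, .fwd 42] [3] (.free), .derive 12 [.edge 3, .bwd 0] [] (.free), .derive 32 [.bwd 2, .fwd 323, .fwd 195] [5] (.free), .derive 83 [.bwd 365, .fwd 0] [] (.free), .derive 83 [.fwd 0] [] (.free), .derive 32 [.bwd 3] [] (.free), .derive 12 [.bwd 0, .fwd 368, .fwd 1] [5] (.free), .derive 13 [.edge 5, .fwd 0] [] (.free), .derive 66 [.bwd 0] [] (.free), .derive 13 [.bwd 0, .fwd 277] [4] (.free),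
  .derive 31 [.fwd 491, .fwd 0] [] (.free), .derive 130 [.bwd 0, .fwd 93] [] (.free), .derive 69 [.fwd 214, .fwd 91] [] (.free), .derive 25 [.bwd 1, .fwd 280, .fwd 0] [1] (.free), .derive 14 [.edge 1, .bwd 0] [] (.free), .derive 25 [.bwd 0] [] (.free), .derive 9 [.fwd 504, .fwd 0] [0] (.free), .commit 0]

/-- Segment 1. -/
def seg1 : List Phase := [.aux ((ph1_0 ++ (ph1_1 ++ ph1_2)) ++ (ph1_3 ++ (ph1_4 ++ ph1_5)))]

theorem seg1_ok : stIs (runList (phaseStep P) seg1 ⟨15, mask1, []⟩) 141 mask2 = true := by decide +kernel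

/-- The steps of segment 2, part 0. -/
def ph2_0 : List ℕ := [
  49167, 20506, 41059, 16411, 24612, 45102, 28715, 32817, 49204, 57395,
  57394, 41014]

/-- Segment 2. -/
def seg2 : List Phase := [.scans ph2_0]

theorem seg2_ok : stIs (runList (phaseStep P) seg2 ⟨141, mask2, []⟩) 141 (2 ^ (15 * P.k) - 1) = true := by decide +kernel

end Cfsg.Agent.CoThreeSp6.LevelF
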