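import Cfsg.Agent.Lib.Compute.CosetBound

/-! The coset enumeration over the normaliser of an elementary abelian group: data. -/

set_option autoImplicit false
set_option maxRecDepth 100000
set_option Elab.async false

namespace Cfsg.Agent.CoThreeSp6.LevelF

open Cfsg.Agent.CosetCert

/-- The table. -/
def tab : Tab :=
  .leaf 0xb000d000e000e000d0009000c000e000d000d000e0008000d000b000500090006000c000e000c000a00070005000600080008000b000600090003000900070008000c000a000e000a000a000900050007000d000700090006000b00080004000400050007000a000c000b00030006000c0008000b000500060003000100030003000700050004000200040004000a000200020003000100020001000000010004000200010002000100000000000000000000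

/-- The relators. -/
def base : List (List ℕ) := [
  [2, 3, 2, 3],
  [2, 4, 2, 4],
  [4, 3, 2, 4, 3],
  [1, 4, 2, 1, 2, 4],
  [4, 3, 1, 2, 4, 1, 3],
  [0, 1, 0, 1, 0, 1, 0, 1],
  [0, 1, 2, 1, 0, 2, 0, 2],
  [1, 3, 1, 2, 1, 3, 1, 2],
  [0, 3, 0, 3, 0, 3, 0, 3],
  [2, 1, 4, 3, 2, 3, 1, 4],
  [0, 4, 0, 4, 0, 4, 0, 4],
  [0, 4, 0, 2, 0, 4, 0, 2, 4],
  [2, 0, 3, 2, 0, 2, 3, 0, 3],
  [3, 4, 1, 2, 1, 3, 1, 4, 1],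
  [4, 1, 3, 2, 1, 4, 1, 3, 1],
  [4, 3, 1, 3, 2, 3, 4, 1, 3],
  [0, 2, 1, 2, 1, 0, 1, 2, 1, 2],
  [2, 3, 1, 0, 2, 0, 2, 0, 1, 3],
  [4, 1, 2, 0, 1, 0, 2, 4, 0, 1, 0],
  [0, 1, 0, 3, 0, 1, 0, 3, 0, 1, 0, 3],
  [3, 1, 0, 1, 3, 1, 0, 1, 3, 1, 0, 1],
  [5, 4, 5, 4],
  [5, 0, 1, 0, 5, 1],
  [5, 4, 0, 1, 0, 4, 5, 2, 1, 2],
  [5, 1, 0, 1, 0, 5, 0, 1, 0, 1],
  [5, 3, 1, 3, 0, 5, 1, 3, 1, 3, 0],
  [5, 3, 1, 3, 0, 1, 2, 0, 5, 0, 2],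
  [5, 2, 0, 1, 5, 2, 0, 2, 3, 1, 3],
  [5, 0, 1, 4, 0, 5, 4, 1, 0, 4, 0],
  [5, 0, 3, 1, 3, 5, 0, 1, 3, 1, 3],
  [5, 3, 1, 4, 3, 0, 2, 5, 1, 0, 2, 4],
  [5, 0, 2, 1, 5, 1, 2, 3, 1, 3, 0, 2],
  [5, 1, 2, 0, 5, 0, 2, 0, 1, 3, 1, 3],
  [5, 4, 1, 2, 0, 5, 2, 0, 1, 3, 4, 1, 3],
  [5, 2, 0, 1, 4, 5, 2, 4, 0, 2, 3, 1, 3],
  [5, 2, 0, 3, 1, 3, 2, 5, 0, 1, 0, 1, 2, 0],
  [5, 0, 1, 2, 0, 2, 5, 1, 0, 2, 0, 3, 1, 3],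
  [5, 2, 1, 0, 3, 4, 1, 3, 5, 4, 0, 1, 2, 0, 2],
  [5, 3, 1, 3, 1, 0, 4, 2, 0, 5, 0, 2, 1, 0, 4, 0],
  [5, 3, 1, 3, 0, 4, 0, 1, 0, 5, 2, 3, 1, 4, 3, 0],
  [5, 1, 0, 2, 1, 0, 4, 2, 5, 2, 4, 0, 3, 1, 2, 3],
  [5, 3, 4, 1, 3, 1, 5, 2, 4, 0, 1, 3, 1, 2, 3, 0, 2],
  [5, 4, 2, 0, 3, 2, 1, 3, 1, 0, 2, 5, 1, 3, 4, 1, 3],
  [5, 2, 5, 2, 5, 2],
  [3, 5, 3, 5, 3, 5, 3, 5, 3, 5],
  [3, 1, 3, 5, 3, 1, 3, 5, 3, 1, 3, 5],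
  [3, 5, 2, 3, 5, 2, 3, 5, 2, 3, 5, 2, 3, 5, 2],
  [2, 3, 5, 3, 5, 2, 3, 5, 3, 5, 2, 3, 5, 3, 5],
  [4, 1, 4, 3, 5, 3, 4, 1, 4, 3, 5, 3, 4, 1, 4, 3, 5, 3],
  [3, 5, 1, 3, 1, 5, 3, 5, 1, 3, 1, 5, 3, 5, 1, 3, 1, 5],
  [2, 3, 1, 4, 3, 4, 5, 2, 3, 1, 4, 3, 4, 5, 2, 3, 1, 4, 3, 4, 5],
  [5, 1, 2, 1, 3, 5, 3, 5, 1, 2, 1, 3, 5, 3, 5, 1, 2, 1, 3, 5, 3],
  [3, 5, 3, 0, 3, 5, 3, 0, 3, 5, 3, 0, 3, 5, 3, 0, 3, 5, 3, 0, 3, 5, 3, 0],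
  [2, 5, 3, 1, 5, 1, 0, 3, 2, 5, 3, 1, 5, 1, 0, 3, 2, 5, 3, 1, 5, 1, 0, 3],
  [5, 0, 3, 5, 3, 0, 1, 2, 5, 0, 3, 5, 3, 0, 1, 2, 5, 0, 3, 5, 3, 0, 1, 2],
  [2, 0, 3, 5, 3, 1, 0, 5, 2, 0, 3, 5, 3, 1, 0, 5, 2, 0, 3, 5, 3, 1, 0, 5]]

/-- Rotations of the relators. -/
def rots : WTab :=
  (.node (.node (.node (.node (.node (.node (.node (.leaf [2, 3, 2, 3]) (.leaf [5, 3, 1, 3, 2, 0, 2, 5, 1, 0, 2])) (.node (.leaf [1, 3, 1, 4, 1, 2, 3, 1, 4]) (.leaf [5, 3, 0, 3, 5, 3, 0, 3, 5, 3, 0, 3, 5, 3, 0, 3, 5, 3, 0, 3, 5, 3, 0, 3]))) (.node (.node (.leaf [1, 3, 1, 2, 1, 3, 1, 2]) (.leaf [3, 5, 1, 0, 2, 1, 0, 4, 2, 5, 2, 4, 0, 3, 1, 2])) (.node (.leaf [5, 4, 0, 1, 0, 4, 5, 2, 1, 2]) (.leaf [2, 3, 2, 3])))) (.node (.node (.node (.leaf [4, 2, 1, 2, 4, 1]) (.leaf [5, 0, 2, 1, 4, 5, 3, 1, 4, 3, 1, 0, 2]))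 (.node (.leaf [1, 0, 1, 3, 1, 0, 1, 3, 1, 0, 1, 3]) (.leaf [2, 3, 2, 3]))) (.node (.node (.leaf [0, 4, 0, 4, 2, 0, 4, 0, 2]) (.leaf [3, 5, 2, 3, 5, 2, 3, 5, 2, 3, 5, 2, 3, 5, 2])) (.node (.leaf [3, 1, 3, 5, 0, 3, 1, 3, 1, 5, 0]) (.leaf [2, 3, 2, 3]))))) (.node (.node (.node (.node (.leaf [3, 4, 3, 2, 4]) (.leaf [0, 3, 4, 1, 3, 5, 4, 2, 0, 1, 5, 2])) (.node (.leaf [2, 0, 1, 3, 2, 3, 1, 0, 2, 0]) (.leaf [2, 3, 2, 3]))) (.node (.node (.leaf [3, 0, 3, 0, 3, 0, 3, 0]) (.leaf [2, 5, 2, 5, 2, 5])) (.node (.leaf [2, 5, 4, 0, 1, 0, 4, 5, 2, 1]) (.leaf [2, 3, 2, 3])))) (.node (.node (.node (.leaf [1, 3, 4, 3, 1, 4, 2]) (.leaf [5, 2, 0, 2, 1, 0, 4, 5, 3, 1, 4, 3, 0, 1, 2])) (.node (.leaf [0, 1, 0, 5, 1, 5]) (.leaf [2, 3, 2, 3]))) (.node (.node (.leaf [3, 2, 0, 2, 3, 0, 2, 3, 0]) (.leaf [3, 4, 1,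 4, 3, 5, 3, 4, 1, 4, 3, 5, 3, 4, 1, 4, 3, 5])) (.node (.leaf [1, 3, 5, 2, 0, 5, 0, 2, 1, 0, 3]) (.leaf [2, 3, 2, 3])))))) (.node (.node (.node (.node (.node (.leaf [2, 4, 2, 4]) (.leaf [1, 0, 5, 3, 1, 3, 0, 5, 3, 1, 3])) (.node (.leaf [1, 3, 4, 3, 1, 4, 3, 2, 3]) (.leaf [0, 5, 2, 1, 0, 3, 5, 3, 0, 5, 2, 1, 0, 3, 5, 3, 0, 5, 2, 1, 0, 3, 5, 3]))) (.node (.node (.leaf [1, 2, 1, 3, 1, 2, 1, 3]) (.leaf [3, 1, 5, 2, 0, 1, 3, 1, 2, 3, 0, 2, 4, 5, 3, 1, 4])) (.node (.leaf [5, 2, 1, 2, 5, 4, 0, 1, 0, 4]) (.leaf [2, 3, 2, 3])))) (.node (.node (.node (.leaf [2, 4, 1, 4, 2, 1]) (.leaf [5, 0, 2, 1, 0, 1, 0, 5, 2, 3, 1, 3, 0, 2])) (.node (.leaf [4, 5, 4, 5]) (.leaf [2, 3, 2, 3]))) (.node (.node (.leaf [3, 2, 0, 2, 3, 0, 3, 2, 0]) (.leaf [3, 2, 5, 3, 2, 5, 3, 2, 5, 3, 2, 5, 3, 2, 5])) (.node (.leaf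 [5, 0, 3, 1, 3, 1, 5, 0, 3, 1, 3]) (.leaf [2, 3, 2, 3]))))) (.node (.node (.node (.node (.leaf [4, 2, 3, 4, 3]) (.leaf [5, 0, 2, 1, 5, 3, 1, 3, 1, 0, 2, 0])) (.node (.leaf [1, 0, 2, 1, 4, 0, 1, 0, 4, 2, 0]) (.leaf [2, 3, 2, 3]))) (.node (.node (.leaf [0, 4, 0, 4, 0, 4, 0, 4]) (.leaf [5, 3, 5, 3, 5, 3, 5, 3, 5, 3])) (.node (.leaf [0, 1, 5, 1, 0, 1, 0, 5, 0, 1]) (.leaf [2, 3, 2, 3])))) (.node (.node (.node (.leaf [0, 1, 0, 1, 0, 1, 0, 1]) (.leaf [1, 3, 0, 4, 0, 1, 0, 5, 2, 3, 1, 4, 3, 0, 5, 3])) (.node (.leaf [0, 5, 1, 5, 0, 1]) (.leaf [2, 3, 2, 3]))) (.node (.node (.leaf [0, 2, 3, 0, 3, 2, 0, 2, 3]) (.leaf [4, 3, 4, 1, 3, 2, 5, 4, 3, 4, 1, 3, 2, 5, 4, 3, 4, 1, 3, 2, 5])) (.node (.leaf [5, 1, 0, 2, 5, 3, 1, 3, 2, 0, 2]) (.leaf [2, 3, 2, 3]))))))) (.node (.node (.node (.node (.node (.node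 (.leaf [3, 2, 3, 2]) (.leaf [0, 5, 4, 1, 0, 4, 0, 5, 0, 1, 4])) (.node (.leaf [1, 2, 3, 1, 4, 1, 3, 1, 4]) (.leaf [1, 3, 5, 2, 3, 0, 1, 5, 1, 3, 5, 2, 3, 0, 1, 5, 1, 3, 5, 2, 3, 0, 1, 5]))) (.node (.node (.leaf [3, 1, 2, 1, 3, 1, 2, 1]) (.leaf [1, 4, 3, 5, 2, 0, 3, 2, 1, 3, 1, 0, 4, 2, 5, 1, 3])) (.node (.leaf [4, 5, 2, 1, 2, 5, 4, 0, 1, 0]) (.leaf [2, 3, 2, 3])))) (.node (.node (.node (.leaf [1, 2, 4, 1, 4, 2]) (.leaf [5, 4, 1, 0, 2, 5, 3, 1, 3, 2, 0, 4, 2])) (.node (.leaf [5, 4, 5, 4]) (.leaf [2, 3, 2, 3]))) (.node (.node (.leaf [4, 0, 4, 2, 0, 4, 0, 2, 0]) (.leaf [2, 3, 5, 2, 3, 5, 2, 3, 5, 2, 3, 5, 2, 3, 5])) (.node (.leaf [3, 5, 0, 3, 1, 3, 1, 5, 0, 3, 1]) (.leaf [2, 3, 2, 3]))))) (.node (.node (.node (.node (.leaf [3, 4, 2, 3, 4]) (.leaf [2, 0, 3, 1, 3, 2, 1, 5, 1, 2, 0, 5])) (.node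 (.leaf [0, 4, 2, 0, 1, 0, 2, 1, 4, 0, 1]) (.leaf [2, 3, 2, 3]))) (.node (.node (.leaf [3, 4, 1, 2, 4, 1, 3, 2]) (.leaf [3, 5, 3, 5, 3, 5, 3, 5, 3, 5])) (.node (.leaf [5, 0, 1, 0, 1, 5, 1, 0, 1, 0]) (.leaf [2, 3, 2, 3])))) (.node (.node (.node (.leaf [4, 3, 1, 4, 2, 1, 3]) (.leaf [5, 0, 4, 0, 1, 2, 0, 5, 0, 2, 4, 0, 1, 3, 1, 3])) (.node (.leaf [1, 0, 5, 1, 5, 0]) (.leaf [2, 3, 2, 3]))) (.node (.node (.leaf [2, 0, 2, 3, 0, 2, 3, 0, 3]) (.leaf [1, 5, 3, 5, 1, 3, 1, 5, 3, 5, 1, 3, 1, 5, 3, 5, 1, 3])) (.node (.leaf [5, 2, 0, 5, 0, 2, 1, 0, 3, 1, 3]) (.leaf [2, 3, 2, 3])))))) (.node (.node (.node (.node (.node (.leaf [4, 2, 4, 2]) (.leaf [2, 0, 3, 4, 1, 3, 5, 4, 2, 0, 1, 5])) (.node (.leaf [2, 0, 2, 1, 2, 1, 0, 1, 2, 1]) (.leaf [5, 2, 0, 3, 5, 3, 1, 0, 5, 2, 0, 3, 5, 3, 1, 0, 5, 2, 0, 3, 5,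 3, 1, 0]))) (.node (.node (.leaf [0, 3, 0, 3, 0, 3, 0, 3]) (.leaf [5, 2, 5, 2, 5, 2])) (.node (.leaf [2, 1, 2, 5, 4, 0, 1, 0, 4, 5]) (.leaf [2, 3, 2, 3])))) (.node (.node (.node (.leaf [4, 1, 4, 2, 1, 2]) (.leaf [5, 2, 0, 2, 1, 0, 5, 3, 1, 3, 0, 2, 0, 1])) (.node (.leaf [5, 0, 1, 0, 5, 1]) (.leaf [2, 3, 2, 3]))) (.node (.node (.leaf [3, 2, 0, 3, 2, 0, 2, 3, 0]) (.leaf [5, 3, 2, 5, 3, 5, 3, 2, 5, 3, 5, 3, 2, 5, 3])) (.node (.leaf [2, 5, 3, 1, 3, 0, 1, 2, 0, 5, 0]) (.leaf [2, 3, 2, 3]))))) (.node (.node (.node (.node (.leaf [4, 3, 4, 2, 3]) (.leaf [0, 2, 1, 5, 3, 1, 3, 1, 0, 2, 0, 5])) (.node (.leaf [0, 1, 0, 3, 0, 1, 0, 3, 0, 1, 0, 3]) (.leaf [2, 3, 2, 3]))) (.node (.node (.leaf [4, 0, 4, 0, 4, 0, 4, 0]) (.leaf [5, 3, 1, 3, 5, 3, 1, 3, 5, 3, 1, 3])) (.node (.leaf [5, 0, 3, 1, 3, 5, 0,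 3, 1, 3, 1]) (.leaf [2, 3, 2, 3])))) (.node (.node (.node (.leaf [2, 0, 1, 2, 1, 0, 2, 0]) (.leaf [4, 3, 0, 5, 3, 1, 3, 0, 4, 0, 1, 0, 5, 2, 3, 1])) (.node (.leaf [5, 1, 5, 0, 1, 0]) (.leaf [2, 3, 2, 3]))) (.node (.node (.leaf [1, 4, 3, 1, 4, 1, 3, 1, 2]) (.leaf [1, 3, 5, 3, 5, 1, 2, 1, 3, 5, 3, 5, 1, 2, 1, 3, 5, 3, 5, 1, 2])) (.node (.leaf [1, 0, 2, 5, 3, 1, 3, 2, 0, 2, 5]) (.leaf [2, 3, 2, 3]))))))))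

/-- Where the rotations come from, part 0. -/
def hints0 : List (ℕ × ℕ × Bool) := [
  (0, 0, false), (27, 10, true), (14, 0, true), (52, 1, false), (7, 0, false), (40, 15, false), (23, 0, false), (0, 0, false), (3, 1, false), (33, 7, true),
  (20, 1, false), (0, 0, false), (11, 6, true), (46, 0, false), (25, 7, true), (0, 0, false), (2, 4, false), (30, 6, true), (17, 6, false), (0, 0, false),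
  (8, 1, false), (43, 1, false), (23, 9, false), (0, 0, false), (4, 4, true), (37, 14, true), (22, 1, false), (0, 0, false), (12, 2, true), (48, 5, false),
  (26, 8, true), (0, 0, false), (1, 0, false), (29, 3, true), (15, 6, true), (54, 6, true), (7, 2, false), (42, 3, true), (23, 6, false), (0, 0, false),
  (3, 4, false), (35, 13, true), (21, 1, false), (0, 0, false), (12, 2, false), (46, 2, true), (25, 10, true), (0, 0, false), (2, 1, true), (32, 7, true),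
  (18, 6, true), (0, 0, false), (10, 0, false), (44, 1, false), (24, 8, false), (0, 0, false), (5, 0, false), (39, 2, false), (22, 3, false), (0, 0, false),
  (12, 7, true), (50, 1, true), (27, 6, true), (0, 0, false), (0, 1, false), (28, 4, false), (14, 4, true), (53, 4, true), (7, 1, false), (41, 13, true),
  (23, 5, false), (0, 0, false), (3, 3, false), (34, 7, true), (21, 0, false), (0, 0, false), (11, 7, true), (46, 2, false), (25, 9, true), (0, 0, false),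
  (2, 0, true), (31, 0, true), (18, 2, true), (0, 0, false), (9, 4, true), (44, 0, false), (24, 5, false), (0, 0, false), (4, 6, true), (38, 15, true),
  (22, 2, false), (0, 0, false), (12, 3, true), (49, 4, false), (26, 10, true), (0, 0, false), (1, 1, false), (30, 5, true), (16, 9, false), (55, 7, false),
  (8, 0, false), (43, 0, false), (23, 7, false), (0, 0, false), (3, 5, false), (36, 7, true), (22, 0, false), (0, 0, false), (12, 8, false), (47, 2, true),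
  (26, 10, false), (0, 0, false), (2, 4, true), (32, 8, true), (19, 0, false), (0, 0, false), (10, 1, false), (45, 3, false), (25, 5, true), (0, 0, false),
  (6, 7, false), (39, 13, false), (22, 4, false), (0, 0, false), (13, 6, true), (51, 3, false), (27, 7, true), (0, 0, false)]

/-- Where the rotations come from. -/
def hints : List (ℕ × ℕ × Bool) := hints0

/-- The subgroup words. -/
def subs : List (List ℕ) := [[0], [1], [2], [3], [4]]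

/-- The parameters. -/
def P : Params := ⟨tab, 6, rots, subs⟩

/-- The spanning tree, part 0. -/
def tree0 : List ℕ := [
  5, 8, 15, 22, 23, 34, 39, 32, 51, 38,
  44, 33, 77, 79]

/-- The spanning tree. -/
def tree : List ℕ := tree0

/-- The known edges at check point 0. -/
def mask0 : ℕ := 0x28a810420c31cf10e0c920

/-- The known edges at check point 1. -/
def mask1 : ℕ := 0xebbc73cf3cf3cf3efbffff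

/-- The known edges at check point 2. -/
def mask2 : ℕ := 0xfbbc73cf7cf3cf3efbffff

end Cfsg.Agent.CoThreeSp6.LevelF
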